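import Mathlib
import Groth.Prelude.Def_EtDepth
import Groth.Prelude.Def_RDer
import Groth.Agent.Lib.Helper3.EdgeOutIso4

/-!
# helper2: étale depth is monotone in the closed subset (S5176)

For open immersions `j : U ⟶ X`, `k : V ⟶ X` with `U ⊆ V` (so `Z = X ∖ V ⊆ Y = X ∖ U`):
`Γ_Z ∘ Γ_Y ≅ Γ_Z`, `Γ_Y` sends injectives to `Γ_Z`-acyclics, `Γ_Z` is left exact, and the edge map
isomorphism of helper3 (`isIso_edgeOut`) gives `ℋ^p_Z(F) = 0` for `p < n` when `ℋ^p_Y(F) = 0` for `p < n`.
-/

set_option autoImplicit false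
set_option synthInstance.maxHeartbeats 400000
set_option maxHeartbeats 4000000
set_option linter.style.haveILetI false
set_option linter.unusedSectionVars false
set_option linter.unusedVariables false
set_option linter.unusedSimpArgs false
set_option linter.unnecessarySimpa false

universe u v w
open CategoryTheory CategoryTheory.Limits AlgebraicGeometry Opposite
open Groth.Agent.Lib.Helper5 Groth.Agent.Helper3.EdgeOutIso Groth.Agent.Helper3

namespace Groth.Agent.Helper2.EtDepthMono

section Generic

variable {A : Type w} [Category.{v} A] [Abelian A]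

/-- The kernel of a natural transformation `𝟭 ⟶ T` with `T` left exact is a left exact functor. -/
theorem preservesFiniteLimits_of_kernel (T K : A ⥤ A) [T.Additive] [K.Additive]
    [PreservesFiniteLimits T] (τ : 𝟭 A ⟶ T) (κ : K ⟶ 𝟭 A)
    (hκτ : ∀ X, κ.app X ≫ τ.app X = 0)
    (hker : ∀ X, IsLimit (KernelFork.ofι (κ.app X) (hκτ X))) : PreservesFiniteLimits K := by
  rw [Functor.preservesFiniteLimits_iff_forall_exact_map_and_mono]
  intro S hS
  haveI := hS.mono_f
  haveI hmκ : ∀ X, Mono (κ.app X) := fun X => mono_of_isLimit_fork (hker X)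
  have hnat : ∀ {X Y : A} (f : X ⟶ Y), K.map f ≫ κ.app Y = κ.app X ≫ f := fun f => κ.naturality f
  have hτnat : ∀ {X Y : A} (f : X ⟶ Y), f ≫ τ.app Y = τ.app X ≫ T.map f := fun f => τ.naturality f
  haveI : Mono (T.map S.f) := inferInstance
  haveI hmK : Mono (K.map S.f) := by
    haveI : Mono (K.map S.f ≫ κ.app S.X₂) := by rw [hnat]; infer_instance
    exact mono_of_mono (K.map S.f) (κ.app S.X₂)
  have key : ∀ {W : A} (x : W ⟶ K.obj S.X₂), x ≫ K.map S.g = 0 →
      { z : W ⟶ K.obj S.X₁ // z ≫ K.map S.f = x } := by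
    intro W x hx
    have h1 : (x ≫ κ.app S.X₂) ≫ S.g = 0 := by
      rw [Category.assoc, ← hnat, ← Category.assoc, hx, zero_comp]
    have hy : hS.exact.lift _ h1 ≫ S.f = x ≫ κ.app S.X₂ := hS.exact.lift_f _ h1
    have h2 : hS.exact.lift _ h1 ≫ τ.app S.X₁ = 0 := by
      rw [← cancel_mono (T.map S.f), Category.assoc, ← hτnat, ← Category.assoc, hy, Category.assoc,
        hκτ, comp_zero, zero_comp]
    refine ⟨(KernelFork.IsLimit.lift' (hker S.X₁) _ h2).1, ?_⟩
    have hz : (KernelFork.IsLimit.lift' (hker S.X₁) _ h2).1 ≫ κ.app S.X₁ = hS.exact.lift _ h1 :=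
      (KernelFork.IsLimit.lift' (hker S.X₁) _ h2).2
    rw [← cancel_mono (κ.app S.X₂), Category.assoc, hnat, ← Category.assoc, hz, hy]
  have hzero : (S.map K).f ≫ (S.map K).g = 0 := (S.map K).zero
  haveI : Mono (S.map K).f := hmK
  have hlim : IsLimit (KernelFork.ofι (S.map K).f (S.map K).zero) :=
    KernelFork.IsLimit.ofι' (S.map K).f (S.map K).zero (fun {W} x hx => key x hx)
  exact ((S.map K).exact_and_mono_f_iff_f_is_kernel).2 ⟨hlim⟩

end Generic

section Concrete

variable {X U V : Scheme.{u}} (j : U ⟶ X) [IsOpenImmersion j] (k : V ⟶ X) [IsOpenImmersion k]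
  (hUV : Set.range j.base ⊆ Set.range k.base)

/-- the factorisation of `j` through `k` -/
noncomputable def jk : U ⟶ V := IsOpenImmersion.lift k j hUV

lemma jk_fac : jk j k hUV ≫ k = j := IsOpenImmersion.lift_fac k j hUV

section Plain
variable {W : Scheme.{u}} (w : W ⟶ X)

lemma plain_cond : pullback.fst w j ≫ w = (pullback.snd w j ≫ jk j k hUV) ≫ k := by
  rw [Category.assoc, jk_fac, pullback.condition]

/-- `W ×_X U ⟶ W ×_X V` -/
noncomputable def plainM : pullback w j ⟶ pullback w k :=
  pullback.lift (pullback.fst w j) (pullback.snd w j ≫ jk j k hUV) (plain_cond j k hUV w)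

lemma plainM_fst : plainM j k hUV w ≫ pullback.fst w k = pullback.fst w j := pullback.lift_fst _ _ _

lemma plainM_over : plainM j k hUV w ≫ pullback.snd w k ≫ k = pullback.snd w j ≫ j := by
  rw [plainM, pullback.lift_snd_assoc, Category.assoc, jk_fac]

end Plain

/-- the comparison morphism `W ×_X U ⟶ W ×_X V` in the small étale site of `X` -/
noncomputable def mW (W : X.Etale) :
    (EtShriek.compEtale j).obj ((EtCoh.bc j).obj W) ⟶
      (EtShriek.compEtale k).obj ((EtCoh.bc k).obj W) :=
  MorphismProperty.Over.homMk (plainM j k hUV W.hom) (plainM_over j k hUV W.hom) trivial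

lemma mW_fac (W : X.Etale) :
    (EtOpenImm.siteAdj j).counit.app W = mW j k hUV W ≫ (EtOpenImm.siteAdj k).counit.app W := by
  apply (Scheme.Etale.forget X ⋙ Over.forget X).map_injective
  exact (plainM_fst j k hUV W.hom).symm

/-- the inclusion of sections with support, as a natural transformation -/
noncomputable def kap : EtDual.secSupp j ⟶ 𝟭 (EtCoh.Ab X) where
  app F := kernel.ι (EtDual.unitApp j F)
  naturality F G f := by
    exact kernel.lift_ι _ _ _

lemma kap_unit (F : EtCoh.Ab X) : (kap j).app F ≫ (EtCoh.pullPushAdj j).unit.app F = 0 :=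
  kernel.condition _

instance lex_pullPush : PreservesFiniteLimits (EtCoh.pull j ⋙ EtCoh.push j) := by
  haveI : PreservesFiniteLimits (EtCoh.pull j) := Groth.Agent.S0623.lexPull j
  haveI : PreservesFiniteLimits (EtCoh.push j) := by
    haveI := (EtCoh.pullPushAdj j).rightAdjoint_preservesLimits
    exact PreservesLimitsOfSize.preservesFiniteLimits.{0, 0} (EtCoh.push j)
  infer_instance

instance lex_secSupp : PreservesFiniteLimits (EtDual.secSupp j) :=
  preservesFiniteLimits_of_kernel (EtCoh.pull j ⋙ EtCoh.push j) (EtDual.secSupp j)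
    (EtCoh.pullPushAdj j).unit (kap j) (kap_unit j) (fun F => kernelIsKernel _)

include hUV in
/-- sections supported off `V` are supported off `U` when `U ⊆ V` -/
theorem kap_k_unit_j (F : EtCoh.Ab X) :
    kernel.ι (EtDual.unitApp k F) ≫ EtDual.unitApp j F = 0 := by
  have hj := Adjunction.unit_leftAdjointUniq_hom_app (EtCoh.pullPushAdj j)
    (Groth.Agent.S0623.restrPushAdj j) F
  have hk := Adjunction.unit_leftAdjointUniq_hom_app (EtCoh.pullPushAdj k)
    (Groth.Agent.S0623.restrPushAdj k) F
  have h0 : kernel.ι (EtDual.unitApp k F) ≫ (Groth.Agent.S0623.restrPushAdj k).unit.app F = 0 := by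
    rw [← hk, ← Category.assoc, kernel.condition, zero_comp]
  have h2 : kernel.ι (EtDual.unitApp k F) ≫ (Groth.Agent.S0623.restrPushAdj j).unit.app F = 0 := by
    apply Sheaf.hom_ext
    apply NatTrans.ext
    funext W
    induction W using Opposite.rec with
    | _ W =>
      apply AddCommGrpCat.hom_ext
      apply AddMonoidHom.ext
      intro s
      change F.obj.map ((EtOpenImm.siteAdj j).counit.app W).op
        ((kernel.ι (EtDual.unitApp k F)).hom.app (op W) s) = 0
      rw [mW_fac j k hUV W, op_comp, Functor.map_comp]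
      change (F.obj.map (mW j k hUV W).op) ((F.obj.map ((EtOpenImm.siteAdj k).counit.app W).op)
        ((kernel.ι (EtDual.unitApp k F)).hom.app (op W) s)) = 0
      have h3 : (F.obj.map ((EtOpenImm.siteAdj k).counit.app W).op)
          ((kernel.ι (EtDual.unitApp k F)).hom.app (op W) s) = 0 :=
        congrArg (fun φ : kernel (EtDual.unitApp k F) ⟶
          (EtCoh.push k).obj ((EtShriek.restrAlong k).obj F) => φ.hom.app (op W) s) h0
      rw [h3, map_zero]
  rw [← cancel_mono ((EtCoh.push j).map (((EtCoh.pullPushAdj j).leftAdjointUniq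
    (Groth.Agent.S0623.restrPushAdj j)).hom.app F)), Category.assoc, hj, h2, zero_comp]

include hUV in
/-- `Γ_Z (j_* G) = 0` -/
theorem isZero_secSupp_push (G : EtCoh.Ab U) :
    IsZero ((EtDual.secSupp k).obj ((EtCoh.push j).obj G)) := by
  have hsplit : EtDual.unitApp j ((EtCoh.push j).obj G) ≫
      (EtCoh.push j).map ((EtCoh.pullPushAdj j).counit.app G) = 𝟙 _ :=
    (EtCoh.pullPushAdj j).right_triangle_components G
  have h1 : kernel.ι (EtDual.unitApp k ((EtCoh.push j).obj G)) = 0 := by
    have h2 := kap_k_unit_j j k hUV ((EtCoh.push j).obj G)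
    calc kernel.ι (EtDual.unitApp k ((EtCoh.push j).obj G))
        = kernel.ι (EtDual.unitApp k ((EtCoh.push j).obj G)) ≫
          (EtDual.unitApp j ((EtCoh.push j).obj G) ≫
            (EtCoh.push j).map ((EtCoh.pullPushAdj j).counit.app G)) := by
          rw [hsplit, Category.comp_id]
      _ = 0 := by rw [← Category.assoc, h2, zero_comp]
  exact IsZero.of_mono_eq_zero _ h1

include hUV in
/-- sections with support of an injective sheaf are acyclic for sections with smaller support -/
theorem acy_secSupp' (I : EtCoh.Ab X) [Injective I] :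
    Acy (EtDual.secSupp k) ((EtDual.secSupp j).obj I) := by
  haveI := epi_unitApp j I
  haveI : Injective ((EtCoh.pull j).obj I) := Groth.Agent.S0623.injective_pull j I
  haveI : (EtCoh.push j).PreservesInjectiveObjects :=
    Functor.preservesInjectiveObjects_of_adjunction_of_preservesMonomorphisms (EtCoh.pullPushAdj j)
  haveI : Injective ((EtCoh.push j).obj ((EtCoh.pull j).obj I)) := (EtCoh.push j).injective_obj _
  obtain ⟨S, hSdef⟩ : ∃ S : ShortComplex (EtCoh.Ab X), S =
      ShortComplex.mk (kernel.ι (EtDual.unitApp j I)) (EtDual.unitApp j I) (kernel.condition _) :=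
    ⟨_, rfl⟩
  have hS : S.ShortExact := by
    subst hSdef
    exact ShortComplex.ShortExact.mk' (ShortComplex.exact_of_f_is_kernel _ (kernelIsKernel _))
      (inferInstanceAs (Mono (kernel.ι (EtDual.unitApp j I))))
      (inferInstanceAs (Epi (EtDual.unitApp j I)))
  haveI := enoughInjectives (B := EtCoh.Ab X)
  intro n
  subst hSdef
  cases n with
  | zero =>
    have hz2 : IsZero (((EtDual.secSupp k).rightDerived 1).obj I) :=
      Functor.isZero_rightDerived_obj_injective_succ _ 0 I
    have hz3 : IsZero (((EtDual.secSupp k).rightDerived 0).obj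
        ((EtCoh.push j).obj ((EtCoh.pull j).obj I))) :=
      (isZero_secSupp_push j k hUV _).of_iso ((EtDual.secSupp k).rightDerivedZeroIsoSelf.app _)
    exact ((RDerL.derivedLES (EtDual.secSupp k)).exact₁ _ hS 0 1 rfl).isZero_of_both_zeros
      (hz3.eq_of_src _ _) (hz2.eq_of_tgt _ _)
  | succ n =>
    exact ((RDerL.derivedLES (EtDual.secSupp k)).exact₁ _ hS (n + 1) (n + 2) rfl).isZero_of_both_zeros
      ((Functor.isZero_rightDerived_obj_injective_succ _ n
        ((EtCoh.push j).obj ((EtCoh.pull j).obj I))).eq_of_src _ _)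
      ((Functor.isZero_rightDerived_obj_injective_succ _ (n + 1) I).eq_of_tgt _ _)

include hUV in
/-- `Γ_Z(Γ_Y F) ⟶ Γ_Z F` is an isomorphism -/
theorem isIso_map_kap (F : EtCoh.Ab X) : IsIso ((EtDual.secSupp k).map ((kap j).app F)) := by
  haveI hm : Mono ((kap j).app F) := inferInstanceAs (Mono (kernel.ι (EtDual.unitApp j F)))
  haveI : Mono ((EtDual.secSupp k).map ((kap j).app F)) := inferInstance
  haveI : Mono ((EtCoh.pull k ⋙ EtCoh.push k).map ((kap j).app F)) := inferInstance
  have hι : (EtDual.secSupp k).map ((kap j).app F) ≫ kernel.ι (EtDual.unitApp k F) =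
      kernel.ι (EtDual.unitApp k ((EtDual.secSupp j).obj F)) ≫ (kap j).app F :=
    kernel.lift_ι _ _ _
  obtain ⟨ℓ, hℓ⟩ : ∃ ℓ : (EtDual.secSupp k).obj F ⟶ (EtDual.secSupp j).obj F,
      ℓ ≫ (kap j).app F = kernel.ι (EtDual.unitApp k F) :=
    ⟨kernel.lift (EtDual.unitApp j F) (kernel.ι (EtDual.unitApp k F)) (kap_k_unit_j j k hUV F),
      kernel.lift_ι _ _ _⟩
  have hℓ0 : ℓ ≫ EtDual.unitApp k ((EtDual.secSupp j).obj F) = 0 := by
    rw [← cancel_mono ((EtCoh.pull k ⋙ EtCoh.push k).map ((kap j).app F)), Category.assoc, zero_comp]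
    have hn := (EtCoh.pullPushAdj k).unit.naturality ((kap j).app F)
    have hn' : EtDual.unitApp k ((EtDual.secSupp j).obj F) ≫
        (EtCoh.pull k ⋙ EtCoh.push k).map ((kap j).app F) =
        (kap j).app F ≫ EtDual.unitApp k F := hn.symm
    rw [hn', ← Category.assoc, hℓ, kernel.condition]
  have hs : kernel.lift (EtDual.unitApp k ((EtDual.secSupp j).obj F)) ℓ hℓ0 ≫
      (EtDual.secSupp k).map ((kap j).app F) = 𝟙 _ := by
    rw [← cancel_mono (kernel.ι (EtDual.unitApp k F)), Category.assoc, hι, ← Category.assoc,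
      kernel.lift_ι, hℓ, Category.id_comp]
  haveI : IsSplitEpi ((EtDual.secSupp k).map ((kap j).app F)) := IsSplitEpi.mk' ⟨_, hs⟩
  exact isIso_of_mono_of_isSplitEpi _

/-- `Γ_Y ⋙ Γ_Z ≅ Γ_Z` -/
noncomputable def compIso : EtDual.secSupp j ⋙ EtDual.secSupp k ≅ EtDual.secSupp k :=
  haveI : ∀ F, IsIso ((EtDual.secSupp k).map ((kap j).app F)) := isIso_map_kap j k hUV
  NatIso.ofComponents (fun F => asIso ((EtDual.secSupp k).map ((kap j).app F)))
    (fun {F G} f => by
      change (EtDual.secSupp k).map ((EtDual.secSupp j).map f) ≫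
        (EtDual.secSupp k).map ((kap j).app G) =
        (EtDual.secSupp k).map ((kap j).app F) ≫ (EtDual.secSupp k).map f
      rw [← Functor.map_comp, ← Functor.map_comp]
      congr 1
      exact (kap j).naturality f)

include hUV in
theorem main5176 (F : EtCoh.Ab X) (n : ℕ) (h : EtDepth.DepthGE j F n) :
    EtDepth.DepthGE k F n := by
  intro p hp
  have h1 : IsIso (RDer.edgeOut (EtDual.secSupp j) (EtDual.secSupp k) p F) :=
    isIso_edgeOut (EtDual.secSupp j) (EtDual.secSupp k) (fun I _ => acy_secSupp' j k hUV I) F p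
      (fun q hq => acy_of_isZero _ (h q (lt_trans hq hp)))
  have h2 : IsZero ((EtDual.secSupp k).obj (((EtDual.secSupp j).rightDerived p).obj F)) :=
    Functor.map_isZero _ (h p hp)
  have h3 : IsZero (((EtDual.secSupp j ⋙ EtDual.secSupp k).rightDerived p).obj F) :=
    h2.of_iso (asIso (RDer.edgeOut (EtDual.secSupp j) (EtDual.secSupp k) p F))
  exact h3.of_iso ((RDer.rightDerivedIso (compIso j k hUV) p).app F).symm

end Concrete

end Groth.Agent.Helper2.EtDepthMono
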